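import Mathlib

/-!
# Affine chart lemmas: points and primes, restrictions of sections
-/

set_option autoImplicit false
universe u

open AlgebraicGeometry CategoryTheory Limits TopologicalSpace Opposite

namespace Groth.Agent.Lib.Helper24.WeilExt

/-- restriction of sections as a ring homomorphism -/
noncomputable def res (Y : Scheme.{u}) {A B : Y.Opens} (h : A ≤ B) : Γ(Y, B) →+* Γ(Y, A) :=
  (Y.presheaf.map (homOfLE h).op).hom

theorem res_res (Y : Scheme.{u}) {A B C : Y.Opens} (h₁ : A ≤ B) (h₂ : B ≤ C) (x : Γ(Y, C)) :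
    res Y h₁ (res Y h₂ x) = res Y (h₁.trans h₂) x := by
  unfold res
  rw [← RingHom.comp_apply, ← CommRingCat.hom_comp, ← Functor.map_comp]
  rfl

theorem res_self (Y : Scheme.{u}) {A : Y.Opens} (h : A ≤ A) (x : Γ(Y, A)) : res Y h x = x := by
  unfold res
  have : (homOfLE h).op = 𝟙 (op A) := rfl
  rw [this, Y.presheaf.map_id]
  rfl

theorem basicOpen_res' (Y : Scheme.{u}) {A B : Y.Opens} (h : A ≤ B) (x : Γ(Y, B)) :
    Y.basicOpen (res Y h x) = A ⊓ Y.basicOpen x :=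
  Scheme.basicOpen_res _ _ _

theorem isUnit_res_of_le_basicOpen (Y : Scheme.{u}) {A B : Y.Opens} (h : A ≤ B) (x : Γ(Y, B))
    (hA : A ≤ Y.basicOpen x) : IsUnit (res Y h x) := by
  have h1 : IsUnit (res Y (Y.basicOpen_le x) x) := RingedSpace.isUnit_res_basicOpen _ x
  have h2 := h1.map (res Y hA)
  rwa [res_res] at h2

theorem mem_basicOpen_iff_notMem_primeIdealOf {Y : Scheme.{u}} {V : Y.Opens} (hV : IsAffineOpen V)
    (x : Y) (hx : x ∈ V) (s : Γ(Y, V)) :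
    x ∈ Y.basicOpen s ↔ s ∉ (hV.primeIdealOf ⟨x, hx⟩).asIdeal := by
  rw [Scheme.mem_basicOpen _ _ _ hx]
  letI := Y.presheaf.algebra_section_stalk ⟨x, hx⟩
  haveI := hV.isLocalization_stalk ⟨x, hx⟩
  exact IsLocalization.AtPrime.isUnit_to_map_iff (Y.presheaf.stalk x)
    (hV.primeIdealOf ⟨x, hx⟩).asIdeal s

/-- in a reduced scheme a section vanishing on a dense open subset vanishes -/
theorem eq_zero_of_res_eq_zero (Y : Scheme.{u}) [IsReduced Y] {A B : Y.Opens} (h : A ≤ B)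
    (hdense : (B : Set Y) ⊆ closure (A : Set Y)) (x : Γ(Y, B)) (hx : res Y h x = 0) : x = 0 := by
  rw [← basicOpen_eq_bot_iff]
  have h1 : A ⊓ Y.basicOpen x = ⊥ := by
    rw [← basicOpen_res' Y h x, hx]
    simp
  rw [eq_bot_iff]
  intro y hy
  have hyB : y ∈ (B : Set Y) := Y.basicOpen_le x hy
  have := mem_closure_iff.1 (hdense hyB) (Y.basicOpen x) (Y.basicOpen x).isOpen hy
  obtain ⟨w, hw1, hw2⟩ := this
  have : w ∈ A ⊓ Y.basicOpen x := ⟨hw2, hw1⟩
  rw [h1] at this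
  exact this

theorem exists_point_of_prime {T : Scheme.{u}} {U : T.Opens} (hU : IsAffineOpen U)
    (q : Ideal Γ(T, U)) [hq : q.IsPrime] :
    ∃ (t : T) (ht : t ∈ U), (hU.primeIdealOf ⟨t, ht⟩).asIdeal = q := by
  obtain ⟨x, hx⟩ := (Scheme.Hom.homeomorph hU.isoSpec.hom).surjective ⟨q, hq⟩
  refine ⟨x.1, x.2, ?_⟩
  have : hU.primeIdealOf ⟨x.1, x.2⟩ = ⟨q, hq⟩ := hx
  rw [this]

theorem primeIdealOf_le_iff {T : Scheme.{u}} {U : T.Opens} (hU : IsAffineOpen U)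
    (t z : T) (ht : t ∈ U) (hz : z ∈ U) :
    (hU.primeIdealOf ⟨t, ht⟩).asIdeal ≤ (hU.primeIdealOf ⟨z, hz⟩).asIdeal ↔ t ⤳ z := by
  have h1 : (hU.primeIdealOf ⟨t, ht⟩).asIdeal ≤ (hU.primeIdealOf ⟨z, hz⟩).asIdeal ↔
      hU.primeIdealOf ⟨t, ht⟩ ≤ hU.primeIdealOf ⟨z, hz⟩ := Iff.rfl
  rw [h1, PrimeSpectrum.le_iff_specializes]
  have h2 : hU.primeIdealOf ⟨t, ht⟩ ⤳ hU.primeIdealOf ⟨z, hz⟩ ↔
      (⟨t, ht⟩ : U) ⤳ (⟨z, hz⟩ : U) :=
    (Scheme.Hom.homeomorph hU.isoSpec.hom).isInducing.specializes_iff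
  rw [h2, subtype_specializes_iff]

theorem ringKrullDim_stalk_eq_height {T : Scheme.{u}} {U : T.Opens} (hU : IsAffineOpen U)
    (t : T) (ht : t ∈ U) :
    ringKrullDim (T.presheaf.stalk t) = (hU.primeIdealOf ⟨t, ht⟩).asIdeal.height := by
  letI := T.presheaf.algebra_section_stalk ⟨t, ht⟩
  haveI := hU.isLocalization_stalk ⟨t, ht⟩
  exact IsLocalization.AtPrime.ringKrullDim_eq_height _ _

theorem isDomain_and_isIntegrallyClosed_localization {T : Scheme.{u}} {U : T.Opens}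
    (hU : IsAffineOpen U) (z : T) (hz : z ∈ U) [IsDomain (T.presheaf.stalk z)]
    (hn : IsIntegrallyClosed (T.presheaf.stalk z)) :
    IsDomain (Localization.AtPrime (hU.primeIdealOf ⟨z, hz⟩).asIdeal) ∧
      IsIntegrallyClosed (Localization.AtPrime (hU.primeIdealOf ⟨z, hz⟩).asIdeal) := by
  letI := T.presheaf.algebra_section_stalk ⟨z, hz⟩
  haveI := hU.isLocalization_stalk ⟨z, hz⟩
  let e := IsLocalization.algEquiv (hU.primeIdealOf ⟨z, hz⟩).asIdeal.primeCompl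
      (T.presheaf.stalk z) (Localization.AtPrime (hU.primeIdealOf ⟨z, hz⟩).asIdeal)
  exact ⟨MulEquiv.isDomain _ e.toRingEquiv.symm.toMulEquiv, IsIntegrallyClosed.of_equiv e.toRingEquiv⟩

end Groth.Agent.Lib.Helper24.WeilExt
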