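import Mathlib
import Groth.Agent.Lib.Helper24.WeilExt.Chart

/-!
# Extending morphisms to an affine open of finite type, given extension of functions
-/

set_option autoImplicit false
universe u

open AlgebraicGeometry CategoryTheory Limits TopologicalSpace Opposite

namespace Groth.Agent.Lib.Helper24.WeilExt

variable {Y G : Scheme.{u}}

/-- the morphism to `G` from an open `N` of `Y` defined by a ring map `Γ(G, G') ⟶ Γ(Y, N)` -/
noncomputable def mor {G' : G.Opens} (hG' : IsAffineOpen G') {N : Y.Opens}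
    (φ : Γ(G, G') ⟶ Γ(Y, N)) : N.toScheme ⟶ G :=
  N.toSpecΓ ≫ Spec.map φ ≫ hG'.fromSpec

/-- the ring map defined by a morphism from an open `N` of `Y` with image in `G'` -/
noncomputable def sec {G' : G.Opens} {N : Y.Opens} (g : N.toScheme ⟶ G) (hg : ⊤ ≤ g ⁻¹ᵁ G') :
    Γ(G, G') ⟶ Γ(Y, N) :=
  g.appLE G' ⊤ hg ≫ N.topIso.hom

theorem homOfLE_mor {G' : G.Opens} (hG' : IsAffineOpen G') {N N' : Y.Opens} (h : N' ≤ N)
    (φ : Γ(G, G') ⟶ Γ(Y, N)) :
    Y.homOfLE h ≫ mor hG' φ = mor hG' (φ ≫ Y.presheaf.map (homOfLE h).op) := by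
  unfold mor
  rw [Spec.map_comp, Category.assoc, Scheme.Opens.toSpecΓ_SpecMap_presheaf_map_assoc]

theorem eq_toSpecΓ_comp {X : Scheme.{u}} (g : X ⟶ G) (G' : G.Opens) (hG' : IsAffineOpen G')
    (hg : ⊤ ≤ g ⁻¹ᵁ G') :
    g = X.toSpecΓ ≫ Spec.map (g.appLE G' ⊤ hg) ≫ hG'.fromSpec := by
  haveI : IsIso (⊤ : X.Opens).ι := inferInstanceAs (IsIso X.topIso.hom)
  rw [← cancel_epi (⊤ : X.Opens).ι, ← Category.assoc, ← Scheme.Opens.toSpecΓ_top,
    Scheme.Opens.toSpecΓ_SpecMap_appLE_assoc, IsAffineOpen.toSpecΓ_fromSpec,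
    Scheme.Hom.resLE_comp_ι]

theorem mor_sec {G' : G.Opens} (hG' : IsAffineOpen G') {N : Y.Opens} (g : N.toScheme ⟶ G)
    (hg : ⊤ ≤ g ⁻¹ᵁ G') : mor hG' (sec g hg) = g := by
  conv_rhs => rw [eq_toSpecΓ_comp g G' hG' hg]
  unfold mor sec Scheme.Opens.toSpecΓ
  simp only [Spec.map_comp, Category.assoc]
  rw [← Spec.map_comp_assoc, Iso.hom_inv_id, Spec.map_id, Category.id_comp]

theorem le_preimage_top {X Z : Scheme.{u}} (f : X ⟶ Z) (V : X.Opens) : V ≤ f ⁻¹ᵁ ⊤ :=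
  fun _ _ => trivial

theorem isDominant_homOfLE (Y : Scheme.{u}) {A N : Y.Opens} (h : A ≤ N)
    (hd : (N : Set Y) ⊆ closure (A : Set Y)) : IsDominant (Y.homOfLE h) := by
  constructor
  rw [DenseRange, dense_iff_closure_eq, Set.eq_univ_iff_forall]
  intro n
  rw [N.ι.isOpenEmbedding.isInducing.closure_eq_preimage_closure_image]
  have h1 : (N.ι '' Set.range (Y.homOfLE h)) = (A : Set Y) := by
    rw [← Set.range_comp]
    have : (⇑N.ι ∘ ⇑(Y.homOfLE h)) = ⇑A.ι := by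
      funext a
      change (Y.homOfLE h ≫ N.ι) a = A.ι a
      rw [Y.homOfLE_ι h]
    rw [this]
    exact A.range_ι
  rw [h1]
  exact hd n.2

theorem sec_comp_structure {S : Scheme.{u}} (pY : Y ⟶ S) (pG : G ⟶ S) (G' : G.Opens) (W : Y.Opens)
    (h : W.toScheme ⟶ G) (hh : h ≫ pG = W.ι ≫ pY) (hrange : ⊤ ≤ h ⁻¹ᵁ G') :
    pG.appLE ⊤ G' (le_preimage_top pG G') ≫ sec h hrange =
      pY.appLE ⊤ W (le_preimage_top pY W) := by
  unfold sec
  have h1 : pG.appLE ⊤ G' (le_preimage_top pG G') ≫ h.appLE G' ⊤ hrange =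
      (h ≫ pG).appLE ⊤ ⊤ (le_preimage_top _ _) :=
    Scheme.Hom.appLE_comp_appLE h pG ⊤ G' ⊤ _ hrange
  have key : ∀ (k : W.toScheme ⟶ S) (_ : k = W.ι ≫ pY),
      k.appLE ⊤ ⊤ (le_preimage_top _ _) = (W.ι ≫ pY).appLE ⊤ ⊤ (le_preimage_top _ _) := by
    intro k hk
    subst hk
    rfl
  have h3 : pY.appLE ⊤ W (le_preimage_top pY W) ≫ W.ι.appLE W ⊤ (by simp) =
      (W.ι ≫ pY).appLE ⊤ ⊤ (le_preimage_top _ _) :=
    Scheme.Hom.appLE_comp_appLE W.ι pY ⊤ W ⊤ _ _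
  have h4 : W.ι.appLE W ⊤ (by simp) ≫ W.topIso.hom = 𝟙 _ := by
    rw [Scheme.Opens.ι_appLE, Scheme.Opens.topIso_hom]
    refine (Y.presheaf.map_comp _ _).symm.trans ?_
    exact Y.presheaf.map_id _
  rw [← Category.assoc, h1, key _ hh, ← h3, Category.assoc, h4, Category.comp_id]

theorem affExt {S : Scheme.{u}} [IsAffine S] (pY : Y ⟶ S) (pG : G ⟶ S) [LocallyOfFiniteType pG]
    [IsReduced Y]
    (G' : G.Opens) (hG' : IsAffineOpen G') (W : Y.Opens) (h : W.toScheme ⟶ G)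
    (hh : h ≫ pG = W.ι ≫ pY) (hrange : ⊤ ≤ h ⁻¹ᵁ G') (x : Y)
    (N₁ : Y.Opens) (hxN₁ : x ∈ N₁) (hirr : IsPreirreducible (N₁ : Set Y))
    (hne : ((N₁ ⊓ W : Y.Opens) : Set Y).Nonempty)
    (hext : ∀ b : Γ(Y, W), ∃ (N : Y.Opens) (_ : x ∈ N) (c : Γ(Y, N)),
      res Y (inf_le_left : N ⊓ W ≤ N) c = res Y (inf_le_right : N ⊓ W ≤ W) b) :
    ∃ (N : Y.Opens) (_ : x ∈ N) (_ : N ≤ N₁) (h' : N.toScheme ⟶ G),
      h' ≫ pG = N.ι ≫ pY ∧
      Y.homOfLE (inf_le_left : N ⊓ W ≤ N) ≫ h' = Y.homOfLE (inf_le_right : N ⊓ W ≤ W) ≫ h := by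
  classical
  set ρ : Γ(G, G') ⟶ Γ(Y, W) := sec h hrange with hρ
  have hρh : mor hG' ρ = h := mor_sec hG' h hrange
  have hdense : ∀ N : Y.Opens, N ≤ N₁ →
      ((N : Set Y) ⊆ closure ((N ⊓ W : Y.Opens) : Set Y)) := by
    intro N hN y hy
    rw [mem_closure_iff]
    intro O hO hyO
    obtain ⟨w, hw⟩ := hne
    obtain ⟨v, -, hv⟩ := hirr (O ∩ N) W (hO.inter N.isOpen) W.isOpen ⟨y, hN hy, hyO, hy⟩
      ⟨w, hw.1, hw.2⟩
    exact ⟨v, hv.1.1, hv.1.2, hv.2⟩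
  have hinj : ∀ N : Y.Opens, N ≤ N₁ →
      Function.Injective (res Y (inf_le_left : N ⊓ W ≤ N)) := by
    intro N hN
    rw [injective_iff_map_eq_zero]
    intro a ha
    exact eq_zero_of_res_eq_zero Y _ (hdense N hN) a ha
  have hft : (pG.appLE ⊤ G' (le_preimage_top pG G')).hom.FiniteType :=
    pG.finiteType_appLE (isAffineOpen_top S) hG' _
  algebraize [(pG.appLE ⊤ G' (le_preimage_top pG G')).hom]
  have hft' : Algebra.FiniteType Γ(S, ⊤) Γ(G, G') := hft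
  obtain ⟨s, hs⟩ := hft'.out
  choose Nb hxNb cb hcb using hext
  set N : Y.Opens := N₁ ⊓ s.inf (fun l => Nb (ρ.hom l)) with hN
  have hxN : x ∈ N := by
    refine ⟨hxN₁, ?_⟩
    change x ∈ ((s.inf fun l => Nb (ρ.hom l) : Y.Opens) : Set Y)
    rw [TopologicalSpace.Opens.coe_finset_inf]
    simpa using fun l (_ : l ∈ s) => hxNb (ρ.hom l)
  have hNle : N ≤ N₁ := inf_le_left
  have hNl : ∀ l ∈ s, N ≤ Nb (ρ.hom l) := fun l hl => inf_le_right.trans (Finset.inf_le hl)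
  -- the subalgebra of functions that extend to `N`
  let E : Subalgebra Γ(S, ⊤) Γ(G, G') :=
    { carrier := {l | ∃ c : Γ(Y, N), res Y (inf_le_left : N ⊓ W ≤ N) c =
        res Y (inf_le_right : N ⊓ W ≤ W) (ρ.hom l)}
      mul_mem' := by
        rintro a b ⟨ca, ha⟩ ⟨cb, hb⟩
        exact ⟨ca * cb, by rw [map_mul, map_mul, map_mul, ha, hb]⟩
      add_mem' := by
        rintro a b ⟨ca, ha⟩ ⟨cb, hb⟩
        exact ⟨ca + cb, by rw [map_add, map_add, map_add, ha, hb]⟩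
      one_mem' := ⟨1, by rw [map_one, map_one, map_one]⟩
      zero_mem' := ⟨0, by rw [map_zero, map_zero, map_zero]⟩
      algebraMap_mem' := by
        intro r
        refine ⟨(pY.appLE ⊤ N (le_preimage_top pY N)).hom r, ?_⟩
        have h1 : ρ.hom (algebraMap Γ(S, ⊤) Γ(G, G') r) =
            (pY.appLE ⊤ W (le_preimage_top pY W)).hom r := by
          have := sec_comp_structure pY pG G' W h hh hrange
          exact congrArg (fun k : Γ(S, ⊤) ⟶ Γ(Y, W) => k.hom r) this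
        rw [h1]
        have h2 : pY.appLE ⊤ N (le_preimage_top pY N) ≫
            Y.presheaf.map (homOfLE (inf_le_left : N ⊓ W ≤ N)).op =
            pY.appLE ⊤ (N ⊓ W) (le_preimage_top pY _) := Scheme.Hom.appLE_map _ _ _
        have h3 : pY.appLE ⊤ W (le_preimage_top pY W) ≫
            Y.presheaf.map (homOfLE (inf_le_right : N ⊓ W ≤ W)).op =
            pY.appLE ⊤ (N ⊓ W) (le_preimage_top pY _) := Scheme.Hom.appLE_map _ _ _
        have h4 := congrArg (fun k : Γ(S, ⊤) ⟶ Γ(Y, N ⊓ W) => k.hom r) (h2.trans h3.symm)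
        exact h4 }
  have hE : E = ⊤ := by
    rw [eq_top_iff, ← hs]
    apply Algebra.adjoin_le
    intro l hl
    refine ⟨res Y (hNl l hl) (cb (ρ.hom l)), ?_⟩
    have h1 := congrArg (res Y (inf_le_inf (hNl l hl) le_rfl : N ⊓ W ≤ Nb (ρ.hom l) ⊓ W))
      (hcb (ρ.hom l))
    rw [res_res, res_res] at h1
    rw [res_res]
    exact h1
  have hall : ∀ l : Γ(G, G'), ∃ c : Γ(Y, N), res Y (inf_le_left : N ⊓ W ≤ N) c =
      res Y (inf_le_right : N ⊓ W ≤ W) (ρ.hom l) := by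
    intro l
    have : l ∈ E := by rw [hE]; exact Algebra.mem_top
    exact this
  -- the ring homomorphism
  set r : Γ(Y, N) →+* Γ(Y, N ⊓ W) := res Y (inf_le_left : N ⊓ W ≤ N) with hr
  have hrinj : Function.Injective r := hinj N hNle
  set ψ : Γ(G, G') →+* Γ(Y, N ⊓ W) := (res Y (inf_le_right : N ⊓ W ≤ W)).comp ρ.hom with hψ
  have hψmem : ∀ l, ψ l ∈ r.range := fun l => by
    obtain ⟨c, hc⟩ := hall l
    exact ⟨c, hc⟩
  let er : Γ(Y, N) ≃+* r.range := RingEquiv.ofBijective r.rangeRestrict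
    ⟨fun a b hab => hrinj (congrArg Subtype.val hab), r.rangeRestrict_surjective⟩
  let φ : Γ(G, G') →+* Γ(Y, N) := (er.symm : r.range →+* Γ(Y, N)).comp (ψ.codRestrict r.range hψmem)
  have hφ : ∀ l, r (φ l) = ψ l := by
    intro l
    have h1 : er (φ l) = ψ.codRestrict r.range hψmem l := er.apply_symm_apply _
    exact congrArg Subtype.val h1
  refine ⟨N, hxN, hNle, mor hG' (CommRingCat.ofHom φ), ?_⟩
  have hagree : Y.homOfLE (inf_le_left : N ⊓ W ≤ N) ≫ mor hG' (CommRingCat.ofHom φ) =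
      Y.homOfLE (inf_le_right : N ⊓ W ≤ W) ≫ h := by
    rw [← hρh, homOfLE_mor, homOfLE_mor]
    congr 1
    ext l
    exact hφ l
  refine ⟨?_, hagree⟩
  haveI : IsDominant (Y.homOfLE (inf_le_left : N ⊓ W ≤ N)) :=
    isDominant_homOfLE Y _ (hdense N hNle)
  apply ext_of_isDominant (ι := Y.homOfLE (inf_le_left : N ⊓ W ≤ N))
  rw [← Category.assoc, hagree, Category.assoc, hh, Scheme.homOfLE_ι_assoc, Scheme.homOfLE_ι_assoc]

end Groth.Agent.Lib.Helper24.WeilExt
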