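import Mathlib

/-!
# Descent of a morphism along a faithfully flat quasi-compact morphism, given agreement over a
dense open subset
-/

set_option autoImplicit false
universe u

open AlgebraicGeometry CategoryTheory Limits TopologicalSpace Opposite

namespace Groth.Agent.Lib.Helper24.WeilExt

theorem descend {S Z G M : Scheme.{u}} (pZ : Z ⟶ S) (pG : G ⟶ S) [IsSeparated pG]
    (Ω U : Z.Opens) (hU : Dense (U : Set Z))
    (q : M ⟶ Ω.toScheme) [Flat q] [LocallyOfFinitePresentation q] [Surjective q] [QuasiCompact q]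
    [IsReduced (pullback q q)]
    (ũ : M ⟶ G) (hũ : ũ ≫ pG = q ≫ Ω.ι ≫ pZ)
    (u : U.toScheme ⟶ G) (hu : u ≫ pG = U.ι ≫ pZ)
    (hagree : ∀ {T : Scheme.{u}} (a : T ⟶ M) (b : T ⟶ U.toScheme),
      a ≫ q ≫ Ω.ι = b ≫ U.ι → a ≫ ũ = b ≫ u) :
    ∃ u' : Ω.toScheme ⟶ G, u' ≫ pG = Ω.ι ≫ pZ ∧
      Z.homOfLE (inf_le_left : Ω ⊓ U ≤ Ω) ≫ u' = Z.homOfLE (inf_le_right : Ω ⊓ U ≤ U) ≫ u := by
  let j : (Ω ⊓ U).toScheme ⟶ Ω.toScheme := Z.homOfLE inf_le_left
  let jU : (Ω ⊓ U).toScheme ⟶ U.toScheme := Z.homOfLE inf_le_right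
  have hj : j ≫ Ω.ι = jU ≫ U.ι := by rw [Z.homOfLE_ι, Z.homOfLE_ι]
  -- density of `Ω ⊓ U` in `Ω`
  have hjd : Dense (Set.range j) := by
    have h1 : Set.range j = Ω.ι ⁻¹' (U : Set Z) := by
      ext ω
      constructor
      · rintro ⟨a, rfl⟩
        change (j ≫ Ω.ι) a ∈ (U : Set Z)
        rw [Z.homOfLE_ι]
        exact a.2.2
      · intro hω
        refine ⟨⟨ω.1, ω.2, hω⟩, ?_⟩
        apply Ω.ι.isOpenEmbedding.injective
        change (j ≫ Ω.ι) _ = _
        rw [Z.homOfLE_ι]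
        rfl
    rw [h1]
    exact hU.preimage Ω.ι.isOpenEmbedding.isOpenMap
  -- cocycle condition
  have hcoc : pullback.fst q q ≫ ũ = pullback.snd q q ≫ ũ := by
    let r : pullback q q ⟶ Ω.toScheme := pullback.fst q q ≫ q
    haveI : UniversallyOpen q := inferInstance
    haveI : UniversallyOpen r := inferInstance
    let ι : pullback r j ⟶ pullback q q := pullback.fst r j
    haveI : IsDominant ι := by
      constructor
      rw [DenseRange, Scheme.Pullback.range_fst]
      exact hjd.preimage r.isOpenMap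
    apply ext_of_isDominant_of_isSeparated pG ?_ ι
    · have e1 : (ι ≫ pullback.fst q q) ≫ q ≫ Ω.ι = (pullback.snd r j ≫ jU) ≫ U.ι := by
        rw [Category.assoc, Category.assoc, ← hj, ← pullback.condition_assoc]
        rfl
      have e2 : (ι ≫ pullback.snd q q) ≫ q ≫ Ω.ι = (pullback.snd r j ≫ jU) ≫ U.ι := by
        rw [Category.assoc, ← pullback.condition_assoc]
        exact e1
      have h1 := hagree _ _ e1
      have h2 := hagree _ _ e2
      rw [← Category.assoc, ← Category.assoc, h1, h2]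
    · rw [Category.assoc, Category.assoc, hũ, ← pullback.condition_assoc]
  haveI : EffectiveEpi q := inferInstance
  have hdesc : ∀ {T : Scheme.{u}} (g₁ g₂ : T ⟶ M), g₁ ≫ q = g₂ ≫ q → g₁ ≫ ũ = g₂ ≫ ũ := by
    intro T g₁ g₂ h12
    have h1 : g₁ = pullback.lift g₁ g₂ h12 ≫ pullback.fst q q := (pullback.lift_fst _ _ _).symm
    have h2 : g₂ = pullback.lift g₁ g₂ h12 ≫ pullback.snd q q := (pullback.lift_snd _ _ _).symm
    rw [h1, Category.assoc, hcoc, ← Category.assoc, ← h2]
  let u' : Ω.toScheme ⟶ G := EffectiveEpi.desc q ũ hdesc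
  have hu' : q ≫ u' = ũ := EffectiveEpi.fac q ũ hdesc
  refine ⟨u', ?_, ?_⟩
  · rw [← cancel_epi q, ← Category.assoc, hu', hũ]
  · -- agreement on `Ω ⊓ U`
    haveI : EffectiveEpi (pullback.snd q j) := inferInstance
    rw [← cancel_epi (pullback.snd q j)]
    have e1 : pullback.fst q j ≫ q ≫ Ω.ι = (pullback.snd q j ≫ jU) ≫ U.ι := by
      rw [Category.assoc, ← hj, pullback.condition_assoc]
    have h1 := hagree _ _ e1
    rw [← Category.assoc, ← pullback.condition, Category.assoc, hu', h1, Category.assoc]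

end Groth.Agent.Lib.Helper24.WeilExt
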