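import Mathlib
import Groth.Agent.S2505

/-!
# Fibrewise density is stable under base change (at a diagonal point)
-/

set_option autoImplicit false
universe u

open AlgebraicGeometry CategoryTheory Limits TopologicalSpace Opposite

namespace Groth.Agent.Lib.Helper24.WeilExt

theorem exists_point_fibre {S Z : Scheme.{u}} (pZ : Z ⟶ S) (U : Z.Opens) (z : Z)
    (hdense : z ∈ closure ((U : Set Z) ∩ {y | pZ.base y = pZ.base z}))
    (N : (pullback pZ pZ).Opens) (hN : pullback.diagonal pZ z ∈ N) :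
    ∃ y₀ ∈ N, (pullback.fst pZ pZ) y₀ = z ∧ (pullback.snd pZ pZ) y₀ ∈ U := by
  set s : S := pZ z with hs
  let ιz := Z.fromSpecResidueField z
  let ιs := S.fromSpecResidueField s
  let m : Spec (Z.residueField z) ⟶ Spec (S.residueField s) := Spec.map (pZ.residueFieldMap z)
  have hm : m ≫ ιs = ιz ≫ pZ := Scheme.Hom.SpecMap_residueFieldMap_fromSpecResidueField pZ z
  let φ := pZ.fiberι s
  let τ := pZ.fiberToSpecResidueField s
  have hφτ : φ ≫ pZ = τ ≫ ιs := pZ.fiber_fac s
  haveI : Subsingleton ↥(Spec (S.residueField s)) :=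
    inferInstanceAs (Subsingleton (PrimeSpectrum (S.residueField s)))
  haveI : UniversallyOpen m := Groth.Agent.S2505.aux m
  let g : pullback m τ ⟶ pZ.fiber s := pullback.snd m τ
  haveI : UniversallyOpen g := inferInstance
  let θ : pullback m τ ⟶ pullback pZ pZ :=
    pullback.lift (pullback.fst m τ ≫ ιz) (g ≫ φ) (by
      rw [Category.assoc, ← hm, Category.assoc, hφτ, pullback.condition_assoc])
  have hθ₁ : θ ≫ pullback.fst pZ pZ = pullback.fst m τ ≫ ιz := pullback.lift_fst _ _ _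
  have hθ₂ : θ ≫ pullback.snd pZ pZ = g ≫ φ := pullback.lift_snd _ _ _
  let zs : Spec (Z.residueField z) ⟶ pZ.fiber s := pullback.lift ιz m hm.symm
  have hzs₁ : zs ≫ φ = ιz := pullback.lift_fst _ _ _
  have hzs₂ : zs ≫ τ = m := pullback.lift_snd _ _ _
  let f₀ : Spec (Z.residueField z) ⟶ pullback m τ := pullback.lift (𝟙 _) zs (by
    rw [Category.id_comp, hzs₂])
  have hf₀₁ : f₀ ≫ pullback.fst m τ = 𝟙 _ := pullback.lift_fst _ _ _
  have hf₀₂ : f₀ ≫ g = zs := pullback.lift_snd _ _ _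
  have hf₀θ : f₀ ≫ θ = ιz ≫ pullback.diagonal pZ := by
    apply pullback.hom_ext
    · rw [Category.assoc, hθ₁, ← Category.assoc, hf₀₁, Category.id_comp, Category.assoc,
        pullback.diagonal_fst, Category.comp_id]
    · rw [Category.assoc, hθ₂, ← Category.assoc, hf₀₂, hzs₁, Category.assoc,
        pullback.diagonal_snd, Category.comp_id]
  let pt : Spec (Z.residueField z) := IsLocalRing.closedPoint (Z.residueField z)
  have hιz : ∀ a, ιz a = z := fun a => Scheme.fromSpecResidueField_apply z a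
  have hpt : θ (f₀ pt) = pullback.diagonal pZ z := by
    have := congrArg (fun k : Spec (Z.residueField z) ⟶ pullback pZ pZ => k pt) hf₀θ
    simp only [Scheme.Hom.comp_apply] at this
    rw [this, hιz]
  -- the open subset `g '' (θ ⁻¹ N)` of the fibre
  have hopen : IsOpen (g '' ((θ ⁻¹ᵁ N : (pullback m τ).Opens) : Set ↥(pullback m τ))) :=
    g.isOpenMap _ (θ ⁻¹ᵁ N).isOpen
  obtain ⟨O, hO, hOeq⟩ := φ.isEmbedding.isInducing.isOpen_iff.1 hopen
  have hzO : z ∈ O := by
    have h1 : g (f₀ pt) ∈ g '' ((θ ⁻¹ᵁ N : (pullback m τ).Opens) : Set ↥(pullback m τ)) :=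
      ⟨f₀ pt, by change θ (f₀ pt) ∈ N; rw [hpt]; exact hN, rfl⟩
    rw [← hOeq] at h1
    have h2 : φ (g (f₀ pt)) = z := by
      have := congrArg (fun k : Spec (Z.residueField z) ⟶ Z => k pt) (hf₀₂ ▸ hzs₁ : (f₀ ≫ g) ≫ φ = ιz)
      simp only [Scheme.Hom.comp_apply] at this
      rw [this, hιz]
    rw [← h2]
    exact h1
  obtain ⟨w, hwO, hwU, hws⟩ := mem_closure_iff.1 hdense O hO hzO
  have hwrange : w ∈ Set.range φ := by
    rw [pZ.range_fiberι s]
    exact hws
  obtain ⟨ws, rfl⟩ := hwrange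
  have h3 : ws ∈ φ ⁻¹' O := hwO
  rw [hOeq] at h3
  obtain ⟨f₁, hf₁N, rfl⟩ := h3
  refine ⟨θ f₁, hf₁N, ?_, ?_⟩
  · have := congrArg (fun k : pullback m τ ⟶ Z => k f₁) hθ₁
    simp only [Scheme.Hom.comp_apply] at this
    rw [this, hιz]
  · have := congrArg (fun k : pullback m τ ⟶ Z => k f₁) hθ₂
    simp only [Scheme.Hom.comp_apply] at this
    rw [this]
    exact hwU

end Groth.Agent.Lib.Helper24.WeilExt
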