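import Mathlib
import Groth.Agent.Lib.Helper12.SerreNormalA
import Groth.Agent.Lib.Helper5.SecRegA

/-!
# Divisibility along a section of a smooth algebra

`Pdiv B 𝒬`: divisibility `γ ∣ β` in `B` can be tested at the primes in `𝒬`.  For a normal Noetherian
domain this holds for the primes of height `≤ 1`; the property lifts along the quotient by a regular
element in the maximal ideal of a Noetherian local ring, hence along the ideal of a section of a
smooth algebra.
-/

set_option autoImplicit false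
universe u

namespace Groth.Agent.Lib.Helper24.WeilExt

open IsLocalRing
open scoped Pointwise

/-- divisibility can be tested at the primes in `𝒬` -/
def Pdiv (B : Type*) [CommRing B] (𝒬 : Set (Ideal B)) : Prop :=
  ∀ β γ : B, γ ≠ 0 → (∀ 𝔮 ∈ 𝒬, ∃ s c : B, s ∉ 𝔮 ∧ s * β = γ * c) → ∃ c, β = γ * c

theorem pdiv_normal (A : Type u) [CommRing A] [IsDomain A] [IsNoetherianRing A]
    [IsIntegrallyClosed A] : Pdiv A {q | q.IsPrime ∧ q.height ≤ 1} := by
  intro β γ hγ H
  by_contra hne
  push Not at hne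
  have hx : (Ideal.Quotient.mk (Ideal.span {γ}) β) ≠ 0 := by
    rw [Ne, Ideal.Quotient.eq_zero_iff_mem, Ideal.mem_span_singleton']
    rintro ⟨c, hc⟩
    exact hne c (by rw [← hc, mul_comm])
  obtain ⟨P, hP, hle⟩ := exists_le_isAssociatedPrime_of_isNoetherianRing (R := A) _ hx
  have hht := Groth.Agent.Lib.Helper12.SerreNormal.height_eq_one_of_mem_associatedPrimes A γ hγ P hP
  have hPprime : P.IsPrime := hP.isPrime
  obtain ⟨s, c, hs, hsc⟩ := H P ⟨hPprime, hht.le⟩
  apply hs
  apply hle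
  rw [Submodule.mem_colon_singleton, Submodule.mem_bot]
  change s • (Ideal.Quotient.mk (Ideal.span {γ}) β) = 0
  have h1 : s • (Ideal.Quotient.mk (Ideal.span {γ}) β) = Ideal.Quotient.mk (Ideal.span {γ}) (s * β) := rfl
  rw [h1, hsc, Ideal.Quotient.eq_zero_iff_mem]
  exact Ideal.mul_mem_right _ _ (Ideal.mem_span_singleton_self γ)

theorem pdiv_step {B B' : Type*} [CommRing B] [CommRing B'] [IsNoetherianRing B] [IsLocalRing B]
    [IsDomain B'] (π : B →+* B') (hπ : Function.Surjective π) (t : B)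
    (ht : RingHom.ker π = Ideal.span {t}) (hreg : IsSMulRegular B t)
    (𝒬 : Set (Ideal B')) (hne : 𝒬.Nonempty) (hP : Pdiv B' 𝒬) :
    IsDomain B ∧ Pdiv B ((fun 𝔮 : Ideal B' => 𝔮.comap π) '' 𝒬) := by
  have hπt : π t = 0 := by
    have : t ∈ RingHom.ker π := by rw [ht]; exact Ideal.mem_span_singleton_self t
    exact this
  have hker : ∀ x, π x = 0 → ∃ y, x = t * y := by
    intro x hx
    have : x ∈ RingHom.ker π := hx
    rw [ht, Ideal.mem_span_singleton] at this
    obtain ⟨y, hy⟩ := this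
    exact ⟨y, hy⟩
  have htop : Ideal.span {t} ≠ ⊤ := by
    rw [← ht]
    exact RingHom.ker_ne_top π
  have hcancel : ∀ a b : B, t * a = t * b → a = b := fun a b h => hreg (by simpa [smul_eq_mul] using h)
  have hcancelpow : ∀ (k : ℕ) (a b : B), t ^ k * a = t ^ k * b → a = b := by
    intro k
    induction k with
    | zero => intro a b h; simpa using h
    | succ k ih =>
      intro a b h
      apply ih
      apply hcancel
      rw [← mul_assoc, ← mul_assoc, ← pow_succ']
      exact h
  have L : ∀ s : B, π s ≠ 0 → ∀ (k : ℕ) (x : B), t ^ k ∣ s * x → t ^ k ∣ x := by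
    intro s hs k
    induction k with
    | zero => intro x _; simp
    | succ k ih =>
      intro x hx
      have h1 : π (s * x) = 0 := by
        obtain ⟨d, hd⟩ := hx
        rw [hd, pow_succ', mul_assoc, map_mul, hπt, zero_mul]
      rw [map_mul] at h1
      have h2 : π x = 0 := (mul_eq_zero.1 h1).resolve_left hs
      obtain ⟨x₁, rfl⟩ := hker x h2
      obtain ⟨d, hd⟩ := hx
      have h3 : s * x₁ = t ^ k * d := by
        apply hcancel
        have h4 : t * (t ^ k * d) = t ^ (k + 1) * d := by rw [pow_succ']; ring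
        rw [h4, ← hd]
        ring
      obtain ⟨d', hd'⟩ := ih x₁ ⟨d, h3⟩
      exact ⟨d', by rw [hd', pow_succ']; ring⟩
  have hdecomp : ∀ x : B, x ≠ 0 → ∃ (k : ℕ) (x' : B), x = t ^ k * x' ∧ π x' ≠ 0 := by
    intro x hx
    have h1 : ∃ n : ℕ, ¬ t ^ n ∣ x := by
      by_contra h
      push Not at h
      apply hx
      have : x ∈ (⨅ n : ℕ, Ideal.span {t} ^ n : Ideal B) := by
        rw [Ideal.mem_iInf]
        intro n
        rw [Ideal.span_singleton_pow, Ideal.mem_span_singleton]
        exact h n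
      rw [Ideal.iInf_pow_eq_bot_of_isLocalRing _ htop] at this
      exact this
    classical
    have hn0 : Nat.find h1 ≠ 0 := by
      intro h0
      have := Nat.find_spec h1
      rw [h0, pow_zero] at this
      exact this (one_dvd x)
    obtain ⟨k, hk⟩ := Nat.exists_eq_succ_of_ne_zero hn0
    have h2 : t ^ k ∣ x := by
      by_contra h
      exact Nat.find_min h1 (by omega : k < Nat.find h1) h
    obtain ⟨x', rfl⟩ := h2
    refine ⟨k, x', rfl, ?_⟩
    intro h0
    obtain ⟨y, rfl⟩ := hker x' h0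
    apply Nat.find_spec h1
    rw [hk]
    exact ⟨y, by rw [pow_succ]; ring⟩
  have hdom : IsDomain B := by
    haveI : NoZeroDivisors B := by
      refine ⟨fun {a b} hab => ?_⟩
      by_contra hcon
      push Not at hcon
      obtain ⟨k, a', rfl, ha'⟩ := hdecomp a hcon.1
      obtain ⟨l, b', rfl, hb'⟩ := hdecomp b hcon.2
      have h1 : a' * b' = 0 := by
        apply hcancelpow (k + l)
        rw [mul_zero, ← hab, pow_add]
        ring
      have h2 : π a' * π b' = 0 := by rw [← map_mul, h1, map_zero]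
      rcases mul_eq_zero.1 h2 with h | h
      · exact ha' h
      · exact hb' h
    exact NoZeroDivisors.to_isDomain B
  refine ⟨hdom, ?_⟩
  intro β γ hγ H
  obtain ⟨k, γ', rfl, hγ'⟩ := hdecomp γ hγ
  obtain ⟨𝔮₀, h𝔮₀⟩ := hne
  obtain ⟨s₀, c₀, hs₀, hsc₀⟩ := H _ ⟨𝔮₀, h𝔮₀, rfl⟩
  have hπs₀ : π s₀ ≠ 0 := fun h => hs₀ (by
    change π s₀ ∈ 𝔮₀
    rw [h]
    exact zero_mem _)
  obtain ⟨β', rfl⟩ : t ^ k ∣ β := L s₀ hπs₀ k β ⟨γ' * c₀, by rw [hsc₀]; ring⟩
  suffices h : ∃ c, β' = γ' * c by
    obtain ⟨c, hc⟩ := h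
    exact ⟨c, by rw [hc]; ring⟩
  have H' : ∀ 𝔮 ∈ 𝒬, ∃ s c : B, π s ∉ 𝔮 ∧ s * β' = γ' * c := by
    intro 𝔮 h𝔮
    obtain ⟨s, c, hs, hsc⟩ := H _ ⟨𝔮, h𝔮, rfl⟩
    refine ⟨s, c, hs, ?_⟩
    apply hcancelpow k
    have : t ^ k * (s * β') = s * (t ^ k * β') := by ring
    rw [this, hsc]
    ring
  have happrox : ∀ n : ℕ, ∃ c r : B, β' = γ' * c + t ^ n * r := by
    intro n
    induction n with
    | zero => exact ⟨0, β', by simp⟩
    | succ n ih =>
      obtain ⟨c, r, hcr⟩ := ih
      have h1 : ∃ e, π r = π γ' * e := by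
        apply hP (π r) (π γ') hγ'
        intro 𝔮 h𝔮
        obtain ⟨s, c', hs, hsc'⟩ := H' 𝔮 h𝔮
        have h2 : γ' * (c' - s * c) = t ^ n * (s * r) := by
          have h3 : s * β' = s * (γ' * c) + s * (t ^ n * r) := by rw [hcr]; ring
          rw [mul_sub, ← hsc', h3]
          ring
        obtain ⟨e, he⟩ := L γ' hγ' n (c' - s * c) ⟨s * r, h2⟩
        have h3 : γ' * e = s * r := by
          apply hcancelpow n
          rw [← h2, he]
          ring
        refine ⟨π s, π e, hs, ?_⟩
        rw [← map_mul, ← map_mul, h3]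
      obtain ⟨ē, hē⟩ := h1
      obtain ⟨e₀, rfl⟩ := hπ ē
      obtain ⟨r', hr'⟩ := hker (r - γ' * e₀) (by rw [map_sub, map_mul, hē, sub_self])
      refine ⟨c + t ^ n * e₀, r', ?_⟩
      have h4 : r = γ' * e₀ + t * r' := by rw [← hr']; ring
      rw [hcr, h4]
      ring
  -- Krull intersection in `B ⧸ (γ')`
  have hz : (Ideal.Quotient.mk (Ideal.span {γ'}) β') = 0 := by
    have hmem : (Ideal.Quotient.mk (Ideal.span {γ'}) β') ∈
        (⨅ i : ℕ, Ideal.span {t} ^ i • (⊤ : Submodule B (B ⧸ Ideal.span {γ'}))) := by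
      rw [Submodule.mem_iInf]
      intro n
      obtain ⟨c, r, hcr⟩ := happrox n
      have h5 : (Ideal.Quotient.mk (Ideal.span {γ'}) β') =
          (t ^ n) • (Ideal.Quotient.mk (Ideal.span {γ'}) r) := by
        have h6 : (t ^ n) • (Ideal.Quotient.mk (Ideal.span {γ'}) r) =
            Ideal.Quotient.mk (Ideal.span {γ'}) (t ^ n * r) := rfl
        rw [h6, Ideal.Quotient.eq, hcr]
        have : γ' * c + t ^ n * r - t ^ n * r = γ' * c := by ring
        rw [this]
        exact Ideal.mul_mem_right _ _ (Ideal.mem_span_singleton_self γ')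
      rw [h5]
      exact Submodule.smul_mem_smul (Ideal.pow_mem_pow (Ideal.mem_span_singleton_self t) n)
        Submodule.mem_top
    rw [Ideal.iInf_pow_smul_eq_bot_of_isLocalRing _ htop] at hmem
    exact hmem
  rw [Ideal.Quotient.eq_zero_iff_mem, Ideal.mem_span_singleton] at hz
  obtain ⟨c, hc⟩ := hz
  exact ⟨c, hc⟩

theorem pdiv_of_bijective {A B : Type*} [CommRing A] [CommRing B] [IsDomain A] (π : B →+* A)
    (hπ : Function.Bijective π) (𝒬 : Set (Ideal A)) (hP : Pdiv A 𝒬) :
    IsDomain B ∧ Pdiv B ((fun 𝔮 : Ideal A => 𝔮.comap π) '' 𝒬) := by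
  refine ⟨hπ.1.isDomain π, ?_⟩
  intro β γ hγ H
  have h1 : ∃ c, π β = π γ * c := by
    apply hP (π β) (π γ) (fun h => hγ (hπ.1 (by rw [h, map_zero])))
    intro 𝔮 h𝔮
    obtain ⟨s, c, hs, hsc⟩ := H _ ⟨𝔮, h𝔮, rfl⟩
    exact ⟨π s, π c, hs, by rw [← map_mul, ← map_mul, hsc]⟩
  obtain ⟨cbar, hcbar⟩ := h1
  obtain ⟨c, rfl⟩ := hπ.2 cbar
  exact ⟨c, hπ.1 (by rw [hcbar, map_mul])⟩

theorem pdiv_iter {A : Type u} [CommRing A] [IsDomain A] (𝒬 : Set (Ideal A)) (hne : 𝒬.Nonempty)
    (hP : Pdiv A 𝒬) (n : ℕ) :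
    ∀ (B : Type u) [CommRing B] [IsNoetherianRing B] [IsLocalRing B] (π : B →+* A)
      (_ : Function.Surjective π) (rs : List B) (_ : rs.length = n)
      (_ : RingHom.ker π = Ideal.ofList rs) (_ : RingTheory.Sequence.IsWeaklyRegular B rs),
      IsDomain B ∧ Pdiv B ((fun 𝔮 : Ideal A => 𝔮.comap π) '' 𝒬) := by
  induction n with
  | zero =>
    intro B _ _ _ π hπ rs hlen hker _
    obtain rfl := List.length_eq_zero_iff.1 hlen
    rw [Ideal.ofList_nil] at hker
    exact pdiv_of_bijective π ⟨(RingHom.injective_iff_ker_eq_bot π).2 hker, hπ⟩ 𝒬 hP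
  | succ n ih =>
    intro B _ _ _ π hπ rs hlen hker hreg
    obtain ⟨t, ts, rfl⟩ : ∃ t ts, rs = t :: ts := by
      cases rs with
      | nil => simp at hlen
      | cons t ts => exact ⟨t, ts, rfl⟩
    have hlen' : ts.length = n := by simpa using hlen
    have htker : Ideal.span {t} ≤ RingHom.ker π := by
      rw [hker, Ideal.ofList_cons]
      exact le_sup_left
    let π' : B ⧸ Ideal.span {t} →+* A := Ideal.Quotient.lift (Ideal.span {t}) π
      (fun x hx => htker hx)
    have hπ' : Function.Surjective π' := by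
      intro a
      obtain ⟨b, rfl⟩ := hπ a
      exact ⟨Ideal.Quotient.mk _ b, Ideal.Quotient.lift_mk _ _ _⟩
    haveI : Nontrivial (B ⧸ Ideal.span {t}) := hπ'.nontrivial
    haveI : IsLocalRing (B ⧸ Ideal.span {t}) :=
      IsLocalRing.of_surjective' (Ideal.Quotient.mk (Ideal.span {t})) Ideal.Quotient.mk_surjective
    have hker' : RingHom.ker π' =
        Ideal.ofList (ts.map (Ideal.Quotient.mk (Ideal.span {t}))) := by
      rw [Ideal.ker_quotient_lift, hker, Ideal.ofList_cons, Ideal.map_sup, Ideal.map_ofList,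
        Ideal.map_quotient_self, bot_sup_eq]
    rw [RingTheory.Sequence.isWeaklyRegular_cons_iff] at hreg
    obtain ⟨hregt, hregts⟩ := hreg
    have hregts' : RingTheory.Sequence.IsWeaklyRegular (B ⧸ Ideal.span {t})
        (ts.map (Ideal.Quotient.mk (Ideal.span {t}))) := by
      have he : (t • (⊤ : Submodule B B)) = Ideal.span {t} := by
        rw [← Submodule.ideal_span_singleton_smul, smul_eq_mul, Ideal.mul_top]
      have h1 : RingTheory.Sequence.IsWeaklyRegular (B ⧸ Ideal.span {t}) ts :=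
        ((Submodule.quotEquivOfEq _ _ he).isWeaklyRegular_congr ts).1 hregts
      exact (RingTheory.Sequence.isWeaklyRegular_map_algebraMap_iff (B ⧸ Ideal.span {t})
        (B ⧸ Ideal.span {t}) ts).2 h1
    obtain ⟨hdom', hP'⟩ := ih (B ⧸ Ideal.span {t}) π' hπ' _ (by simpa using hlen') hker' hregts'
    haveI := hdom'
    have hne' : ((fun 𝔮 : Ideal A => 𝔮.comap π') '' 𝒬).Nonempty := hne.image _
    obtain ⟨hdom, hPB⟩ := pdiv_step (Ideal.Quotient.mk (Ideal.span {t})) Ideal.Quotient.mk_surjective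
      t Ideal.mk_ker hregt _ hne' hP'
    refine ⟨hdom, ?_⟩
    rw [Set.image_image] at hPB
    have : (fun 𝔮 : Ideal A => (𝔮.comap π').comap (Ideal.Quotient.mk (Ideal.span {t}))) =
        fun 𝔮 : Ideal A => 𝔮.comap π := by
      funext 𝔮
      rw [Ideal.comap_comap]
      rfl
    rw [this] at hPB
    exact hPB

open Groth.Agent.Lib.Helper5.SecReg in
/-- **Main algebraic theorem**: divisibility `γ ∣ β` at a point of a section of a standard smooth
algebra over a ring which is normal at the point can be tested at the points of the section of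
codimension `≤ 1`. -/
theorem mat {C D : Type u} [CommRing C] [CommRing D] [IsNoetherianRing C] [IsNoetherianRing D]
    (f : C →+* D) (hf : f.IsStandardSmooth) (σ : D →+* C) (hσ : σ.comp f = RingHom.id C)
    (p : Ideal C) [p.IsPrime] [IsDomain (Localization.AtPrime p)]
    [IsIntegrallyClosed (Localization.AtPrime p)]
    (β γ : D) (hγ : algebraMap C (Localization.AtPrime p) (σ γ) ≠ 0)
    (H : ∀ q : Ideal C, q.IsPrime → q ≤ p → q.height ≤ 1 →
      ∃ s c e : D, σ s ∉ q ∧ algebraMap C (Localization.AtPrime p) (σ e) ≠ 0 ∧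
        e * (s * β) = e * (γ * c)) :
    ∃ s c : D, σ s ∉ p ∧ s * β = γ * c := by
  have hσf : ∀ c : C, σ (f c) = c := fun c => RingHom.congr_fun hσ c
  have hσsurj : Function.Surjective σ := fun c => ⟨f c, hσf c⟩
  let 𝔭 : Ideal D := p.comap σ
  haveI : 𝔭.IsPrime := Ideal.comap_isPrime σ p
  obtain ⟨n, g, hgC, hg⟩ := hf.exists_etale_mvPolynomial
  obtain ⟨hwr, hmem, e, he, hspan⟩ := secReg f n g hgC hg σ hσ
  set rs := secSeq g σ with hrs
  let A := Localization.AtPrime p
  let B := Localization.AtPrime 𝔭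
  let π : B →+* A := Localization.localRingHom 𝔭 p σ rfl
  have hπalg : ∀ d : D, π (algebraMap D B d) = algebraMap C A (σ d) := fun d =>
    Localization.localRingHom_to_map 𝔭 p σ rfl d
  have hπ : Function.Surjective π :=
    (RingHom.surjectiveOnStalks_of_surjective hσsurj).localRingHom_surjective 𝔭 p rfl
  have hunit : ∀ d : D, σ d ∉ p → IsUnit (algebraMap D B d) := fun d hd =>
    IsLocalization.map_units B (⟨d, hd⟩ : 𝔭.primeCompl)
  -- the kernel of `π`
  have hker : RingHom.ker π = Ideal.ofList (rs.map (algebraMap D B)) := by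
    apply le_antisymm
    · intro x hx
      obtain ⟨d, w, rfl⟩ := IsLocalization.exists_mk'_eq 𝔭.primeCompl x
      rw [RingHom.mem_ker, Localization.localRingHom_mk', IsLocalization.mk'_eq_zero_iff] at hx
      obtain ⟨u, hu⟩ := hx
      have h1 : f u * d ∈ RingHom.ker σ := by
        rw [RingHom.mem_ker, map_mul, hσf]
        exact hu
      have h2 := hspan _ h1
      have h3 : algebraMap D B ((1 - e) * (f u * d)) ∈ Ideal.ofList (rs.map (algebraMap D B)) := by
        rw [← Ideal.map_ofList]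
        exact Ideal.mem_map_of_mem _ h2
      have h4 : IsUnit (algebraMap D B ((1 - e) * f u)) := by
        apply hunit
        rw [map_mul, map_sub, map_one, RingHom.mem_ker.1 he, sub_zero, one_mul, hσf]
        exact u.2
      have h5 : algebraMap D B d ∈ Ideal.ofList (rs.map (algebraMap D B)) := by
        rw [← mul_assoc, map_mul] at h3
        exact (Ideal.unit_mul_mem_iff_mem _ h4).1 h3
      rw [IsLocalization.mk'_eq_mul_mk'_one]
      exact Ideal.mul_mem_right _ _ h5
    · rw [← Ideal.map_ofList, Ideal.map_le_iff_le_comap]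
      unfold Ideal.ofList
      rw [Ideal.span_le]
      intro y hy
      change π (algebraMap D B y) = 0
      rw [hπalg, RingHom.mem_ker.1 (hmem y hy), map_zero]
  haveI : IsNoetherianRing A := IsLocalization.isNoetherianRing p.primeCompl A inferInstance
  haveI : IsNoetherianRing B := IsLocalization.isNoetherianRing 𝔭.primeCompl B inferInstance
  have hwrB : RingTheory.Sequence.IsWeaklyRegular B (rs.map (algebraMap D B)) :=
    hwr.of_isLocalization B 𝔭.primeCompl
  have hne : ({q : Ideal A | q.IsPrime ∧ q.height ≤ 1}).Nonempty :=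
    ⟨⊥, Ideal.isPrime_bot, by rw [Ideal.height_bot]; exact zero_le⟩
  obtain ⟨hdomB, hPB⟩ := pdiv_iter {q : Ideal A | q.IsPrime ∧ q.height ≤ 1} hne (pdiv_normal A)
    (rs.map (algebraMap D B)).length B π hπ _ rfl hker hwrB
  haveI := hdomB
  have hγB : algebraMap D B γ ≠ 0 := by
    intro h
    apply hγ
    rw [← hπalg, h, map_zero]
  obtain ⟨cB, hcB⟩ := hPB (algebraMap D B β) (algebraMap D B γ) hγB (by
    rintro _ ⟨𝔮', ⟨h𝔮'prime, h𝔮'ht⟩, rfl⟩
    haveI := h𝔮'prime
    have hq1 : (𝔮'.comap (algebraMap C A)).IsPrime := Ideal.comap_isPrime _ _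
    have hq2 : 𝔮'.comap (algebraMap C A) ≤ p := by
      have h1 : 𝔮' ≤ IsLocalRing.maximalIdeal A := IsLocalRing.le_maximalIdeal h𝔮'prime.ne_top
      have h2 := Ideal.comap_mono (f := algebraMap C A) h1
      have h3 := IsLocalization.AtPrime.under_maximalIdeal A p
      rw [Ideal.under] at h3
      rwa [h3] at h2
    have hq3 : (𝔮'.comap (algebraMap C A)).height ≤ 1 := by
      have := IsLocalization.height_under p.primeCompl 𝔮'
      rw [Ideal.under] at this
      rw [this]
      exact h𝔮'ht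
    obtain ⟨s, c, e', hs, he', hsc⟩ := H _ hq1 hq2 hq3
    refine ⟨algebraMap D B s, algebraMap D B c, ?_, ?_⟩
    · change π (algebraMap D B s) ∉ 𝔮'
      rw [hπalg]
      exact hs
    · have he'B : algebraMap D B e' ≠ 0 := by
        intro h
        apply he'
        rw [← hπalg, h, map_zero]
      apply mul_left_cancel₀ he'B
      rw [← map_mul, ← map_mul, ← map_mul, ← map_mul, hsc])
  obtain ⟨⟨c, w⟩, hcw⟩ := IsLocalization.surj 𝔭.primeCompl cB
  have h1 : algebraMap D B (w * β) = algebraMap D B (γ * c) := by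
    rw [map_mul, map_mul, hcB, ← hcw]
    ring
  obtain ⟨w', hw'⟩ := (IsLocalization.eq_iff_exists 𝔭.primeCompl B).1 h1
  refine ⟨w' * w, w' * c, ?_, ?_⟩
  · rw [map_mul]
    exact ‹p.IsPrime›.mul_notMem w'.2 w.2
  · rw [mul_assoc, hw']
    ring

end Groth.Agent.Lib.Helper24.WeilExt
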