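import Mathlib
import Groth.Agent.Lib.Helper24.WeilExt.Alg
import Groth.Agent.Lib.Helper24.WeilExt.Chart
import Groth.Agent.Lib.Helper5.SecRegB
import Groth.Agent.Lib.Helper13.IntegralNhd

/-!
# The key extension lemma

A function on an open subset `W` of a smooth `T`-scheme `Y` with a section `δ`, where `T` is normal
at `z` and `δ⁻¹(W)` contains all generizations of `z` of codimension `≤ 1`, extends to a
neighbourhood of `δ z`.
-/

set_option autoImplicit false
universe u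

open AlgebraicGeometry CategoryTheory Limits TopologicalSpace Opposite

namespace Groth.Agent.Lib.Helper24.WeilExt

open Groth.Agent.Lib.Helper5

theorem exists_eq_pow_mul {Y : Scheme.{u}} {V : Y.Opens} (hV : IsAffineOpen V) (s : Γ(Y, V))
    (x : Γ(Y, Y.basicOpen s)) :
    ∃ (n : ℕ) (y : Γ(Y, V)), res Y (Y.basicOpen_le s) y = res Y (Y.basicOpen_le s) s ^ n * x := by
  obtain ⟨n, y, h⟩ := exists_eq_pow_mul_of_isAffineOpen Y V hV s x
  exact ⟨n, y, h⟩

theorem exists_pow_mul_eq_zero {Y : Scheme.{u}} {V : Y.Opens} (hV : IsAffineOpen V) (x s : Γ(Y, V))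
    (h : res Y (Y.basicOpen_le s) x = 0) : ∃ n : ℕ, s ^ n * x = 0 :=
  exists_pow_mul_eq_zero_of_res_basicOpen_eq_zero_of_isAffineOpen Y hV x s h

theorem gkl {Y T : Scheme.{u}} (π : Y ⟶ T) [Smooth π] (δ : T ⟶ Y) (hδ : δ ≫ π = 𝟙 T)
    [IsLocallyNoetherian T] [IsReduced Y] (z : T) [IsDomain (T.presheaf.stalk z)]
    (hz : IsIntegrallyClosed (T.presheaf.stalk z)) [IsDomain (Y.presheaf.stalk (δ z))]
    (W : Y.Opens)
    (hW : ∀ t : T, t ⤳ z → δ t ∉ W → (2 : WithBot ℕ∞) ≤ ringKrullDim (T.presheaf.stalk t))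
    (b : Γ(Y, W)) :
    ∃ (N : Y.Opens) (_ : δ z ∈ N) (c : Γ(Y, N)),
      res Y (inf_le_left : N ⊓ W ≤ N) c = res Y (inf_le_right : N ⊓ W ≤ W) b := by
  haveI : IsLocallyNoetherian Y := LocallyOfFiniteType.isLocallyNoetherian π
  obtain ⟨U, V, hU, hV, hzU, eV, eU, hstd⟩ := SecReg.exists_affine_section π δ hδ z
  haveI : IsNoetherianRing Γ(T, U) := IsLocallyNoetherian.component_noetherian ⟨U, hU⟩
  haveI : IsNoetherianRing Γ(Y, V) := IsLocallyNoetherian.component_noetherian ⟨V, hV⟩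
  set f : Γ(T, U) →+* Γ(Y, V) := (π.appLE U V eV).hom with hf
  set σ : Γ(Y, V) →+* Γ(T, U) := (δ.appLE V U eU).hom with hσdef
  have hσ : σ.comp f = RingHom.id _ := by
    have h1 := Scheme.Hom.appLE_comp_appLE δ π U V U eV eU
    rw [SecReg.appLE_eq_id_of_eq_id (δ ≫ π) hδ U] at h1
    exact congrArg CommRingCat.Hom.hom h1
  have hprime : ∀ (t : T) (ht : t ∈ U), (hV.primeIdealOf ⟨δ t, eU ht⟩).asIdeal =
      (hU.primeIdealOf ⟨t, ht⟩).asIdeal.comap σ := by
    intro t ht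
    have := IsAffineOpen.comap_primeIdealOf_appLE (f := δ) V hV U hU eU ht
    rw [← this]
    rfl
  have hmemD : ∀ (t : T) (ht : t ∈ U) (s : Γ(Y, V)),
      δ t ∈ Y.basicOpen s ↔ σ s ∉ (hU.primeIdealOf ⟨t, ht⟩).asIdeal := by
    intro t ht s
    rw [mem_basicOpen_iff_notMem_primeIdealOf hV (δ t) (eU ht) s, hprime t ht]
    rfl
  set p := (hU.primeIdealOf ⟨z, hzU⟩).asIdeal with hp
  haveI : p.IsPrime := (hU.primeIdealOf ⟨z, hzU⟩).isPrime
  obtain ⟨hdomA, hnormA⟩ := isDomain_and_isIntegrallyClosed_localization hU z hzU hz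
  haveI := hdomA
  haveI := hnormA
  have hkerle : ∀ (q : Ideal Γ(T, U)), q.IsPrime → q ≤ p →
      ∀ x, algebraMap Γ(T, U) (Localization.AtPrime p) x = 0 → x ∈ q := by
    intro q hq hqp x hx
    obtain ⟨u, hu⟩ := (IsLocalization.map_eq_zero_iff p.primeCompl _ x).1 hx
    have : (u : Γ(T, U)) * x ∈ q := by rw [hu]; exact zero_mem _
    exact (hq.mem_or_mem this).resolve_left (fun h => u.2 (hqp h))
  set p₀ : Ideal Γ(T, U) := RingHom.ker (algebraMap Γ(T, U) (Localization.AtPrime p)) with hp₀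
  haveI : p₀.IsPrime := RingHom.ker_isPrime _
  have hp₀p : p₀ ≤ p := fun x hx => hkerle p inferInstance le_rfl x hx
  have hp₀ht : p₀.height ≤ 1 := by
    have h1 := IsLocalization.height_under p.primeCompl (⊥ : Ideal (Localization.AtPrime p))
    rw [Ideal.height_bot] at h1
    have h2 : p₀ = (⊥ : Ideal (Localization.AtPrime p)).under Γ(T, U) := rfl
    rw [h2, h1]
    exact zero_le
  have hptW : ∀ (t : T) (ht : t ∈ U), (hU.primeIdealOf ⟨t, ht⟩).asIdeal ≤ p →
      (hU.primeIdealOf ⟨t, ht⟩).asIdeal.height ≤ 1 → δ t ∈ W := by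
    intro t ht hle hht
    by_contra hcon
    have h1 := hW t ((primeIdealOf_le_iff hU t z ht hzU).1 hle) hcon
    rw [ringKrullDim_stalk_eq_height hU t ht] at h1
    have h2 : ((2 : ℕ∞) : WithBot ℕ∞) ≤
        (((hU.primeIdealOf ⟨t, ht⟩).asIdeal.height : ℕ∞) : WithBot ℕ∞) := h1
    rw [WithBot.coe_le_coe] at h2
    have h3 := h2.trans hht
    exact absurd h3 (by norm_num)
  obtain ⟨t₀, ht₀U, ht₀⟩ := exists_point_of_prime hU p₀
  have ht₀W : δ t₀ ∈ W := hptW t₀ ht₀U (ht₀ ▸ hp₀p) (ht₀ ▸ hp₀ht)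
  have ht₀V : δ t₀ ∈ V := eU ht₀U
  obtain ⟨γ, hγle, hγmem⟩ := hV.exists_basicOpen_le (V := W ⊓ V) ⟨δ t₀, ⟨ht₀W, ht₀V⟩⟩ ht₀V
  have hγW : Y.basicOpen γ ≤ W := hγle.trans inf_le_left
  have hσγ : algebraMap Γ(T, U) (Localization.AtPrime p) (σ γ) ≠ 0 := by
    intro h
    have h1 := (hmemD t₀ ht₀U γ).1 hγmem
    rw [ht₀] at h1
    exact h1 h
  obtain ⟨n, β, hβ⟩ := exists_eq_pow_mul hV γ (res Y hγW b)
  obtain ⟨s, c, hsp, hsc⟩ := mat f hstd σ hσ p β (γ ^ n)
    (by rw [map_pow, map_pow]; exact pow_ne_zero _ hσγ) (by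
    intro q hq hqp hqht
    haveI := hq
    obtain ⟨t, htU, htq⟩ := exists_point_of_prime hU q
    have htW : δ t ∈ W := hptW t htU (htq ▸ hqp) (htq ▸ hqht)
    have htV : δ t ∈ V := eU htU
    obtain ⟨s, hsle, hsmem⟩ := hV.exists_basicOpen_le (V := W ⊓ V) ⟨δ t, ⟨htW, htV⟩⟩ htV
    have hsW : Y.basicOpen s ≤ W := hsle.trans inf_le_left
    have hσs : σ s ∉ q := by
      have h1 := (hmemD t htU s).1 hsmem
      rwa [htq] at h1
    obtain ⟨m, c, hc⟩ := exists_eq_pow_mul hV s (res Y hsW b)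
    have hzero : res Y (Y.basicOpen_le (s * γ)) (s ^ m * β - γ ^ n * c) = 0 := by
      have hle1 : Y.basicOpen (s * γ) ≤ Y.basicOpen s := by
        rw [Scheme.basicOpen_mul]; exact inf_le_left
      have hle2 : Y.basicOpen (s * γ) ≤ Y.basicOpen γ := by
        rw [Scheme.basicOpen_mul]; exact inf_le_right
      have h1 := congrArg (res Y hle2) hβ
      have h2 := congrArg (res Y hle1) hc
      simp only [map_mul, map_pow, res_res] at h1 h2
      rw [map_sub, map_mul, map_mul, map_pow, map_pow, h1, h2]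
      ring
    obtain ⟨k, hk⟩ := exists_pow_mul_eq_zero hV _ (s * γ) hzero
    refine ⟨s ^ m, c, (s * γ) ^ k, ?_, ?_, ?_⟩
    · exact fun h => hσs (hq.mem_of_pow_mem _ (by rwa [map_pow] at h))
    · rw [map_pow, map_pow, map_mul, map_mul]
      apply pow_ne_zero
      apply mul_ne_zero
      · intro h
        exact hσs (hkerle q hq hqp _ h)
      · exact hσγ
    · rw [mul_sub] at hk
      exact sub_eq_zero.1 hk)
  have hzN₀ : δ z ∈ Y.basicOpen s := (hmemD z hzU s).2 hsp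
  obtain ⟨N₁, hzN₁, hN₁int⟩ :=
    Groth.Agent.Lib.Helper13.IntegralNhd.exists_isIntegral_of_isLocallyNoetherian (δ z)
  set N := Y.basicOpen s ⊓ N₁ with hN
  have hNs : N ≤ Y.basicOpen s := inf_le_left
  have hNV : N ≤ V := hNs.trans (Y.basicOpen_le s)
  have hus : IsUnit (res Y hNV s) := isUnit_res_of_le_basicOpen Y hNV s hNs
  obtain ⟨us, hus'⟩ := hus
  have hc' : res Y hNV c * ↑us⁻¹ * res Y hNV s = res Y hNV c := by
    rw [← hus', mul_assoc, Units.inv_mul, mul_one]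
  refine ⟨N, ⟨hzN₀, hzN₁⟩, res Y hNV c * ↑us⁻¹, ?_⟩
  rw [← sub_eq_zero]
  set A := N ⊓ Y.basicOpen γ with hA
  have hAle : A ≤ N ⊓ W := inf_le_inf le_rfl hγW
  have ht₀z : t₀ ⤳ z := (primeIdealOf_le_iff hU t₀ z ht₀U hzU).1 (ht₀ ▸ hp₀p)
  have ht₀N : δ t₀ ∈ N :=
    (ht₀z.map δ.continuous).mem_open N.isOpen ⟨hzN₀, hzN₁⟩
  apply eq_zero_of_res_eq_zero Y hAle
  · haveI := hN₁int
    have hirr : IsPreirreducible (N₁ : Set Y) :=
      isPreirreducible_iff_preirreducibleSpace.2 (inferInstanceAs (PreirreducibleSpace N₁.toScheme))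
    intro y hy
    rw [mem_closure_iff]
    intro O hO hyO
    obtain ⟨w, -, hw⟩ := hirr O A hO A.isOpen ⟨y, hy.1.2, hyO⟩ ⟨δ t₀, ht₀N.2, ⟨ht₀N, hγmem⟩⟩
    exact ⟨w, hw⟩
  · have hAV : A ≤ V := inf_le_left.trans hNV
    have hAγ : A ≤ Y.basicOpen γ := inf_le_right
    have hAs : A ≤ Y.basicOpen s := inf_le_left.trans hNs
    have huS : IsUnit (res Y hAV s) := isUnit_res_of_le_basicOpen Y hAV s hAs
    have huG : IsUnit (res Y hAV γ ^ n) := (isUnit_res_of_le_basicOpen Y hAV γ hAγ).pow n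
    have e1 : res Y hAV s * res Y hAV β = res Y hAV γ ^ n * res Y hAV c := by
      rw [← map_mul, hsc, map_mul, map_pow]
    have e2 : res Y hAV β = res Y hAV γ ^ n * res Y (hAγ.trans hγW) b := by
      have := congrArg (res Y hAγ) hβ
      simpa only [map_mul, map_pow, res_res] using this
    have e3 : res Y hAV c = res Y hAV s * res Y (hAγ.trans hγW) b := by
      apply huG.mul_left_cancel
      rw [← e1, e2]
      ring
    have e4 := congrArg (res Y (inf_le_left : A ≤ N)) hc'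
    simp only [map_mul, res_res] at e4
    rw [map_sub, res_res, res_res, map_mul, res_res, sub_eq_zero]
    apply huS.mul_right_cancel
    rw [e4, e3]
    ring

end Groth.Agent.Lib.Helper24.WeilExt
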