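import Mathlib
import Groth.Agent.Lib.Helper24.Neron.Main11107
import Groth.Agent.Lib.Helper24.WeilExt.Key
import Groth.Agent.Lib.Helper24.WeilExt.Affine
import Groth.Agent.Lib.Helper24.WeilExt.Descent
import Groth.Agent.Lib.Helper24.WeilExt.Fibre

/-!
# Weil's extension theorem: the local statement
-/

set_option autoImplicit false
universe u

open AlgebraicGeometry CategoryTheory Limits TopologicalSpace Opposite MonoidalCategory
  CartesianMonoidalCategory MonObj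

namespace Groth.Agent.Lib.Helper24.WeilExt

variable {R : Type u} [CommRing R] [IsDomain R] [IsIntegrallyClosed R]

theorem isReduced_of_smooth {X : Scheme.{u}} (pX : X ⟶ Spec (CommRingCat.of R)) [Smooth pX] :
    IsReduced X := by
  haveI : ∀ x : X, _root_.IsReduced (X.presheaf.stalk x) := fun x => by
    haveI := (Groth.Agent.Lib.Helper24.Neron.stalk_normal_of_smooth R pX x).1
    infer_instance
  exact isReduced_of_isReduced_stalk X

variable [IsNoetherianRing R]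

theorem exists_local_extension {Z G : Scheme.{u}} (pZ : Z ⟶ Spec (CommRingCat.of R))
    (pG : G ⟶ Spec (CommRingCat.of R)) [Smooth pZ] [GrpObj (Over.mk pG)] [IsSeparated pG]
    [LocallyOfFiniteType pG] (U : Z.Opens)
    (hdense : ∀ x : Z, x ∈ closure ((U : Set Z) ∩ {y | pZ.base y = pZ.base x}))
    (hcodim : ∀ x : Z, x ∉ U → (2 : WithBot ℕ∞) ≤ ringKrullDim (Z.presheaf.stalk x))
    (u : U.toScheme ⟶ G) (hu : u ≫ pG = U.ι ≫ pZ) (z : Z) :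
    ∃ (Ω : Z.Opens) (_ : z ∈ Ω) (u' : Ω.toScheme ⟶ G), u' ≫ pG = Ω.ι ≫ pZ ∧
      Z.homOfLE (inf_le_left : Ω ⊓ U ≤ Ω) ≫ u' = Z.homOfLE (inf_le_right : Ω ⊓ U ≤ U) ≫ u := by
  -- setup
  let p₁ : pullback pZ pZ ⟶ Z := pullback.fst pZ pZ
  let p₂ : pullback pZ pZ ⟶ Z := pullback.snd pZ pZ
  let pY : pullback pZ pZ ⟶ Spec (CommRingCat.of R) := p₁ ≫ pZ
  have hp₂ : p₂ ≫ pZ = pY := pullback.condition.symm
  let Δ : Z ⟶ pullback pZ pZ := pullback.diagonal pZ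
  have hΔ₁ : Δ ≫ p₁ = 𝟙 Z := pullback.diagonal_fst pZ
  have hΔ₂ : Δ ≫ p₂ = 𝟙 Z := pullback.diagonal_snd pZ
  haveI : IsLocallyNoetherian Z := LocallyOfFiniteType.isLocallyNoetherian pZ
  haveI : Smooth p₁ := inferInstanceAs (Smooth (pullback.fst pZ pZ))
  haveI : Smooth p₂ := inferInstanceAs (Smooth (pullback.snd pZ pZ))
  haveI : Smooth pY := inferInstanceAs (Smooth (p₁ ≫ pZ))
  haveI : IsLocallyNoetherian (pullback pZ pZ) := LocallyOfFiniteType.isLocallyNoetherian pY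
  have hZn := fun x => Groth.Agent.Lib.Helper24.Neron.stalk_normal_of_smooth R pZ x
  have hYn := fun y => Groth.Agent.Lib.Helper24.Neron.stalk_normal_of_smooth R pY y
  haveI : IsReduced Z := isReduced_of_smooth pZ
  haveI : IsReduced (pullback pZ pZ) := isReduced_of_smooth pY
  have hUdense : Dense (U : Set Z) := fun x =>
    closure_mono Set.inter_subset_left (hdense x)
  -- the open `U ×_S U`
  let U₂ : (pullback pZ pZ).Opens := p₁ ⁻¹ᵁ U ⊓ p₂ ⁻¹ᵁ U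
  let a₁ : U₂.toScheme ⟶ U.toScheme := p₁.resLE U U₂ inf_le_left
  let a₂ : U₂.toScheme ⟶ U.toScheme := p₂.resLE U U₂ inf_le_right
  have ha₁ : a₁ ≫ U.ι = U₂.ι ≫ p₁ := Scheme.Hom.resLE_comp_ι _ _
  have ha₂ : a₂ ≫ U.ι = U₂.ι ≫ p₂ := Scheme.Hom.resLE_comp_ι _ _
  let 𝔾 : Over (Spec (CommRingCat.of R)) := Over.mk pG
  let X₂ : Over (Spec (CommRingCat.of R)) := Over.mk (U₂.ι ≫ pY)
  let ã₁ : X₂ ⟶ 𝔾 := Over.homMk (a₁ ≫ u) (by
    change (a₁ ≫ u) ≫ pG = U₂.ι ≫ pY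
    rw [Category.assoc, hu, ← Category.assoc, ha₁, Category.assoc])
  let ã₂ : X₂ ⟶ 𝔾 := Over.homMk (a₂ ≫ u) (by
    change (a₂ ≫ u) ≫ pG = U₂.ι ≫ pY
    rw [Category.assoc, hu, ← Category.assoc, ha₂, Category.assoc, hp₂])
  let v : X₂ ⟶ 𝔾 := ã₁ * ã₂⁻¹
  have hv : v.left ≫ pG = U₂.ι ≫ pY := Over.w v
  -- the unit section
  let e : Spec (CommRingCat.of R) ⟶ G := (η[𝔾] : 𝟙_ (Over (Spec (CommRingCat.of R))) ⟶ 𝔾).left
  have he : e ≫ pG = 𝟙 _ := Over.w (η[𝔾] : 𝟙_ (Over (Spec (CommRingCat.of R))) ⟶ 𝔾)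
  have hone : ∀ T : Over (Spec (CommRingCat.of R)), (1 : T ⟶ 𝔾).left = T.hom ≫ e := by
    intro T
    rw [Hom.one_def]
    rfl
  -- the diagonal of `U`
  have hdrange : Set.range (U.ι ≫ Δ) ⊆ Set.range U₂.ι := by
    rintro _ ⟨t, rfl⟩
    rw [U₂.range_ι]
    have h1 : p₁ ((U.ι ≫ Δ) t) = t.1 := by
      rw [← Scheme.Hom.comp_apply, Category.assoc, hΔ₁, Category.comp_id]
      rfl
    have h2 : p₂ ((U.ι ≫ Δ) t) = t.1 := by
      rw [← Scheme.Hom.comp_apply, Category.assoc, hΔ₂, Category.comp_id]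
      rfl
    refine ⟨?_, ?_⟩
    · change p₁ ((U.ι ≫ Δ) t) ∈ U
      rw [h1]; exact t.2
    · change p₂ ((U.ι ≫ Δ) t) ∈ U
      rw [h2]; exact t.2
  let d : U.toScheme ⟶ U₂.toScheme := IsOpenImmersion.lift U₂.ι (U.ι ≫ Δ) hdrange
  have hd : d ≫ U₂.ι = U.ι ≫ Δ := IsOpenImmersion.lift_fac _ _ _
  have hda₁ : d ≫ a₁ = 𝟙 _ := by
    rw [← cancel_mono U.ι, Category.assoc, ha₁, ← Category.assoc, hd, Category.assoc, hΔ₁,
      Category.comp_id, Category.id_comp]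
  have hda₂ : d ≫ a₂ = 𝟙 _ := by
    rw [← cancel_mono U.ι, Category.assoc, ha₂, ← Category.assoc, hd, Category.assoc, hΔ₂,
      Category.comp_id, Category.id_comp]
  let XU : Over (Spec (CommRingCat.of R)) := Over.mk (U.ι ≫ pZ)
  let ũ : XU ⟶ 𝔾 := Over.homMk u hu
  let dO : XU ⟶ X₂ := Over.homMk d (by
    change d ≫ U₂.ι ≫ pY = U.ι ≫ pZ
    rw [← Category.assoc, hd, Category.assoc, ← Category.assoc Δ, hΔ₁, Category.id_comp])
  have hdv : d ≫ v.left = (U.ι ≫ pZ) ≫ e := by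
    have h1 : dO ≫ ã₁ = ũ := by
      apply Over.OverMorphism.ext
      change d ≫ a₁ ≫ u = u
      rw [← Category.assoc, hda₁, Category.id_comp]
    have h2 : dO ≫ ã₂ = ũ := by
      apply Over.OverMorphism.ext
      change d ≫ a₂ ≫ u = u
      rw [← Category.assoc, hda₂, Category.id_comp]
    have h3 : dO ≫ v = 1 := by
      rw [MonObj.comp_mul, GrpObj.comp_inv, h1, h2, mul_inv_cancel]
    have h4 := congrArg (fun k : XU ⟶ 𝔾 => k.left) h3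
    simp only [Over.comp_left] at h4
    rw [hone] at h4
    exact h4
  -- an affine neighbourhood of the unit section
  obtain ⟨_, ⟨G', hG', rfl⟩, hzG', -⟩ := G.isBasis_affineOpens.exists_subset_of_mem_open
    (Set.mem_univ (e (pZ z))) isOpen_univ
  let O : U₂.toScheme.Opens := v.left ⁻¹ᵁ G'
  let W : (pullback pZ pZ).Opens := U₂.ι ''ᵁ O
  have hWU₂ : W ≤ U₂ := U₂.ι_image_le O
  let h : W.toScheme ⟶ G := (pullback pZ pZ).homOfLE hWU₂ ≫ v.left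
  have hh : h ≫ pG = W.ι ≫ pY := by
    change ((pullback pZ pZ).homOfLE hWU₂ ≫ v.left) ≫ pG = W.ι ≫ pY
    rw [Category.assoc, hv, Scheme.homOfLE_ι_assoc]
  have hmemW : ∀ y : U₂.toScheme, U₂.ι y ∈ W ↔ v.left y ∈ G' := by
    intro y
    exact U₂.mem_ι_image_iff
  have hrange : ⊤ ≤ h ⁻¹ᵁ G' := by
    intro w _
    change v.left (((pullback pZ pZ).homOfLE hWU₂) w) ∈ G'
    rw [← hmemW]
    have : U₂.ι (((pullback pZ pZ).homOfLE hWU₂) w) = W.ι w := by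
      rw [← Scheme.Hom.comp_apply, Scheme.homOfLE_ι]
    rw [this]
    exact w.2
  have hΔW : ∀ t : Z, t ∈ U → e (pZ t) ∈ G' → Δ t ∈ W := by
    intro t ht hte
    have h1 : U₂.ι (d ⟨t, ht⟩) = Δ t :=
      congrArg (fun k : U.toScheme ⟶ pullback pZ pZ => k ⟨t, ht⟩) hd
    rw [← h1, hmemW]
    have h2 : v.left (d ⟨t, ht⟩) = e (pZ t) :=
      congrArg (fun k : U.toScheme ⟶ G => k ⟨t, ht⟩) hdv
    rw [h2]
    exact hte
  -- points of `U` close to `z` whose diagonal lies in a given neighbourhood of `Δ z` and in `W`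
  have hnear : ∀ N : (pullback pZ pZ).Opens, Δ z ∈ N → ∃ t : Z, t ∈ U ∧ Δ t ∈ N ∧ Δ t ∈ W := by
    intro N hN
    have hopen : IsOpen ((Δ ⁻¹ᵁ N ⊓ pZ ⁻¹ᵁ (e ⁻¹ᵁ G') : Z.Opens) : Set Z) := (Δ ⁻¹ᵁ N ⊓ pZ ⁻¹ᵁ (e ⁻¹ᵁ G')).isOpen
    obtain ⟨t, ht1, ht2⟩ := hUdense.inter_open_nonempty _ hopen ⟨z, hN, hzG'⟩
    exact ⟨t, ht2, ht1.1, hΔW t ht2 ht1.2⟩
  haveI := (hZn z).1
  haveI := (hYn (Δ z)).1
  -- extension of functions
  have hext : ∀ b : Γ(pullback pZ pZ, W), ∃ (N : (pullback pZ pZ).Opens) (_ : Δ z ∈ N)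
      (c : Γ(pullback pZ pZ, N)), res _ (inf_le_left : N ⊓ W ≤ N) c =
        res _ (inf_le_right : N ⊓ W ≤ W) b := by
    intro b
    refine gkl p₁ Δ hΔ₁ z (hZn z).2 W ?_ b
    intro t htz htW
    apply hcodim
    intro htU
    apply htW
    apply hΔW t htU
    have h1 : e (pZ t) ⤳ e (pZ z) := (htz.map pZ.continuous).map e.continuous
    exact h1.mem_open G'.isOpen hzG'
  obtain ⟨N₁, hzN₁, hN₁int⟩ :=
    Groth.Agent.Lib.Helper13.IntegralNhd.exists_isIntegral_of_isLocallyNoetherian (Δ z)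
  have hirr : IsPreirreducible (N₁ : Set ↥(pullback pZ pZ)) := by
    haveI := hN₁int
    exact isPreirreducible_iff_preirreducibleSpace.2
      (inferInstanceAs (PreirreducibleSpace N₁.toScheme))
  obtain ⟨N, hzN, hNN₁, h', hh', hagree⟩ := affExt pY pG G' hG' W h hh hrange (Δ z) N₁ hzN₁ hirr
    (by
      obtain ⟨t, -, ht1, ht2⟩ := hnear N₁ hzN₁
      exact ⟨Δ t, ht1, ht2⟩) hext
  -- `h'` agrees with `v` on `N ⊓ U₂`
  have hagree₂ : (pullback pZ pZ).homOfLE (inf_le_left : N ⊓ U₂ ≤ N) ≫ h' =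
      (pullback pZ pZ).homOfLE (inf_le_right : N ⊓ U₂ ≤ U₂) ≫ v.left := by
    have hle : N ⊓ W ≤ N ⊓ U₂ := inf_le_inf le_rfl hWU₂
    haveI : IsDominant ((pullback pZ pZ).homOfLE hle) := by
      apply isDominant_homOfLE
      intro y hy
      rw [mem_closure_iff]
      intro O' hO' hyO'
      obtain ⟨t, -, ht1, ht2⟩ := hnear N hzN
      obtain ⟨w, -, hw⟩ := hirr (O' ∩ (N ⊓ U₂ : (pullback pZ pZ).Opens)) (N ⊓ W : (pullback pZ pZ).Opens)
        (hO'.inter (N ⊓ U₂).isOpen) (N ⊓ W).isOpen ⟨y, hNN₁ hy.1, hyO', hy⟩ ⟨Δ t, hNN₁ ht1, ht1, ht2⟩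
      exact ⟨w, hw.1.1, hw.2⟩
    apply ext_of_isDominant_of_isSeparated pG ?_ ((pullback pZ pZ).homOfLE hle)
    · rw [← Category.assoc, ← Category.assoc, Scheme.homOfLE_homOfLE, Scheme.homOfLE_homOfLE,
        hagree]
      rw [show h = (pullback pZ pZ).homOfLE hWU₂ ≫ v.left from rfl, ← Category.assoc,
        Scheme.homOfLE_homOfLE]
    · rw [Category.assoc, Category.assoc, hh', hv, Scheme.homOfLE_ι_assoc, Scheme.homOfLE_ι_assoc]
  -- a point of `N` over `z` with second coordinate in `U`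
  obtain ⟨y₀, hy₀N, hy₀z, hy₀U⟩ := exists_point_fibre pZ U z (hdense z) N hzN
  obtain ⟨_, ⟨(N'' : (pullback pZ pZ).Opens), (hN''aff : IsAffineOpen N''), rfl⟩, hy₀N'', hN''le⟩ :=
    (pullback pZ pZ).isBasis_affineOpens.exists_subset_of_mem_open
      (show y₀ ∈ ((N ⊓ p₂ ⁻¹ᵁ U : (pullback pZ pZ).Opens) : Set ↥(pullback pZ pZ)) from
        ⟨hy₀N, hy₀U⟩) (N ⊓ p₂ ⁻¹ᵁ U).isOpen
  have hN''N : N'' ≤ N := fun y hy => (hN''le hy).1
  have hN''U : N'' ≤ p₂ ⁻¹ᵁ U := fun y hy => (hN''le hy).2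
  let Ω : Z.Opens := ⟨p₁ '' (N'' : Set ↥(pullback pZ pZ)), p₁.isOpenMap _ N''.isOpen⟩
  have hzΩ : z ∈ Ω := ⟨y₀, hy₀N'', hy₀z⟩
  have hN''Ω : N'' ≤ p₁ ⁻¹ᵁ Ω := fun y hy => ⟨y, hy, rfl⟩
  let q : N''.toScheme ⟶ Ω.toScheme := p₁.resLE Ω N'' hN''Ω
  have hq : q ≫ Ω.ι = N''.ι ≫ p₁ := Scheme.Hom.resLE_comp_ι _ _
  haveI : Smooth q := inferInstanceAs (Smooth (p₁.resLE Ω N'' hN''Ω))
  haveI : Surjective q := ⟨by
    rintro ⟨ω, y, hy, rfl⟩
    refine ⟨⟨y, hy⟩, ?_⟩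
    apply Ω.ι.isOpenEmbedding.injective
    exact congrArg (fun k : N''.toScheme ⟶ Z => k ⟨y, hy⟩) hq⟩
  haveI : CompactSpace N''.toScheme := isCompact_iff_compactSpace.mp hN''aff.isCompact
  haveI : IsLocallyNoetherian Ω.toScheme := isLocallyNoetherian_of_isOpenImmersion Ω.ι
  haveI : QuasiCompact q := inferInstance
  haveI : IsReduced (pullback q q) := by
    haveI : Smooth (pullback.fst q q ≫ N''.ι ≫ pY) := inferInstance
    exact isReduced_of_smooth (pullback.fst q q ≫ N''.ι ≫ pY)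
  -- the morphism to descend
  let XN : Over (Spec (CommRingCat.of R)) := Over.mk (N''.ι ≫ pY)
  let k₁ : XN ⟶ 𝔾 := Over.homMk ((pullback pZ pZ).homOfLE hN''N ≫ h') (by
    change ((pullback pZ pZ).homOfLE hN''N ≫ h') ≫ pG = N''.ι ≫ pY
    rw [Category.assoc, hh', Scheme.homOfLE_ι_assoc])
  let b₂ : N''.toScheme ⟶ U.toScheme := p₂.resLE U N'' hN''U
  have hb₂ : b₂ ≫ U.ι = N''.ι ≫ p₂ := Scheme.Hom.resLE_comp_ι _ _
  let k₂ : XN ⟶ 𝔾 := Over.homMk (b₂ ≫ u) (by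
    change (b₂ ≫ u) ≫ pG = N''.ι ≫ pY
    rw [Category.assoc, hu, ← Category.assoc, hb₂, Category.assoc, hp₂])
  have hũ' : (k₁ * k₂).left ≫ pG = q ≫ Ω.ι ≫ pZ := by
    have := Over.w (k₁ * k₂)
    change (k₁ * k₂).left ≫ pG = N''.ι ≫ pY at this
    rw [this]
    change N''.ι ≫ p₁ ≫ pZ = _
    rw [← Category.assoc, ← hq, Category.assoc]
  obtain ⟨u', hu'1, hu'2⟩ := descend pZ pG Ω U hUdense q (k₁ * k₂).left hũ' u hu (by
    intro T a b hab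
    have hab' : (a ≫ N''.ι) ≫ p₁ = b ≫ U.ι := by
      rw [Category.assoc, ← hq, hab]
    have hyrange : Set.range (a ≫ N''.ι) ⊆ Set.range (N ⊓ U₂).ι := by
      rintro _ ⟨τ, rfl⟩
      rw [(N ⊓ U₂).range_ι]
      have hτ : (a ≫ N''.ι) τ ∈ N'' := by
        rw [Scheme.Hom.comp_apply]
        exact (a τ).2
      refine ⟨hN''N hτ, ?_, hN''U hτ⟩
      change p₁ ((a ≫ N''.ι) τ) ∈ U
      rw [← Scheme.Hom.comp_apply, hab', Scheme.Hom.comp_apply]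
      exact (b τ).2
    let y₃ : T ⟶ (N ⊓ U₂).toScheme := IsOpenImmersion.lift (N ⊓ U₂).ι (a ≫ N''.ι) hyrange
    have hy₃ : y₃ ≫ (N ⊓ U₂).ι = a ≫ N''.ι := IsOpenImmersion.lift_fac _ _ _
    let y₂ : T ⟶ U₂.toScheme := y₃ ≫ (pullback pZ pZ).homOfLE inf_le_right
    have hy₂ : y₂ ≫ U₂.ι = a ≫ N''.ι := by
      rw [Category.assoc, Scheme.homOfLE_ι, hy₃]
    have hy₂a₁ : y₂ ≫ a₁ = b := by
      rw [← cancel_mono U.ι, Category.assoc, ha₁, ← Category.assoc, hy₂, hab']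
    have hy₂a₂ : y₂ ≫ a₂ = a ≫ b₂ := by
      rw [← cancel_mono U.ι, Category.assoc, ha₂, ← Category.assoc, hy₂, Category.assoc,
        Category.assoc, hb₂]
    have hk₁ : a ≫ (pullback pZ pZ).homOfLE hN''N ≫ h' = y₂ ≫ v.left := by
      have h1 : a ≫ (pullback pZ pZ).homOfLE hN''N =
          y₃ ≫ (pullback pZ pZ).homOfLE (inf_le_left : N ⊓ U₂ ≤ N) := by
        rw [← cancel_mono N.ι, Category.assoc, Category.assoc, Scheme.homOfLE_ι,
          Scheme.homOfLE_ι, hy₃]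
      rw [← Category.assoc, h1, Category.assoc, hagree₂, ← Category.assoc]
    let XT : Over (Spec (CommRingCat.of R)) := Over.mk ((a ≫ N''.ι) ≫ pY)
    let aO : XT ⟶ XN := Over.homMk a (by
      change a ≫ N''.ι ≫ pY = (a ≫ N''.ι) ≫ pY
      rw [Category.assoc])
    let y₂O : XT ⟶ X₂ := Over.homMk y₂ (by
      change y₂ ≫ U₂.ι ≫ pY = (a ≫ N''.ι) ≫ pY
      rw [← Category.assoc, hy₂])
    have e1 : aO ≫ k₁ = y₂O ≫ v := by
      apply Over.OverMorphism.ext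
      exact hk₁
    have e2 : aO ≫ k₂ = y₂O ≫ ã₂ := by
      apply Over.OverMorphism.ext
      change a ≫ b₂ ≫ u = y₂ ≫ a₂ ≫ u
      rw [← Category.assoc, ← hy₂a₂, Category.assoc]
    have e3 : aO ≫ (k₁ * k₂) = y₂O ≫ ã₁ := by
      rw [MonObj.comp_mul, e1, e2, ← MonObj.comp_mul]
      congr 1
      exact inv_mul_cancel_right ã₁ ã₂
    have e4 := congrArg (fun k : XT ⟶ 𝔾 => k.left) e3
    change a ≫ (k₁ * k₂).left = y₂ ≫ a₁ ≫ u at e4
    rw [e4, ← Category.assoc, hy₂a₁])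
  exact ⟨Ω, hzΩ, u', hu'1, hu'2⟩

end Groth.Agent.Lib.Helper24.WeilExt
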